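import Groth.Agent.ProjClosed.Quot
import Groth.Agent.Ega2Proj.MapCharts
import Mathlib.AlgebraicGeometry.Morphisms.ClosedImmersion

/-!
# The homogeneous ideal of a closed subscheme of `Proj`
-/

set_option backward.isDefEq.respectTransparency false

universe u

open CategoryTheory AlgebraicGeometry HomogeneousLocalization

namespace Groth.ProjClosed

variable {R A : Type u} [CommRing R] [CommRing A] [Algebra R A] {𝒜 : ℕ → Submodule R A}
  [GradedAlgebra 𝒜]

/-- The fraction `a / f ^ n` for `f` of degree one. -/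
noncomputable def fr {f : A} (hf : f ∈ 𝒜 1) (n : ℕ) (a : A) (ha : a ∈ 𝒜 n) : Away 𝒜 f :=
  Away.mk 𝒜 hf n a (by rw [smul_eq_mul, mul_one]; exact ha)

theorem val_fr {f : A} (hf : f ∈ 𝒜 1) (n : ℕ) (a : A) (ha : a ∈ 𝒜 n) :
    (fr hf n a ha).val = Localization.mk a ⟨f ^ n, (Submonoid.mem_powers_iff _ _).2 ⟨n, rfl⟩⟩ := Away.val_mk _ _ _ _ _

theorem fr_surjective {f : A} (hf : f ∈ 𝒜 1) (z : Away 𝒜 f) : ∃ n a ha, fr hf n a ha = z := by
  obtain ⟨n, a, ha, rfl⟩ := Away.mk_surjective 𝒜 hf z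
  exact ⟨n, a, by simpa using ha, rfl⟩

theorem fr_add {f : A} (hf : f ∈ 𝒜 1) (n : ℕ) (a b : A) (ha : a ∈ 𝒜 n) (hb : b ∈ 𝒜 n) :
    fr hf n (a + b) (add_mem ha hb) = fr hf n a ha + fr hf n b hb := by
  apply HomogeneousLocalization.val_injective
  simp only [HomogeneousLocalization.val_add, val_fr, Localization.add_mk_self]

theorem fr_zero {f : A} (hf : f ∈ 𝒜 1) (n : ℕ) : fr hf n 0 (zero_mem _) = 0 := by
  apply HomogeneousLocalization.val_injective
  simp only [val_fr, HomogeneousLocalization.val_zero, Localization.mk_zero]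

theorem fr_mul {f : A} (hf : f ∈ 𝒜 1) (i k : ℕ) (a b : A) (ha : a ∈ 𝒜 i) (hb : b ∈ 𝒜 k)
    (n : ℕ) (hn : i + k = n) (hab : a * b ∈ 𝒜 n) :
    fr hf n (a * b) hab = fr hf i a ha * fr hf k b hb := by
  subst hn
  apply HomogeneousLocalization.val_injective
  simp only [HomogeneousLocalization.val_mul, val_fr, Localization.mk_mul]
  congr 1
  exact Subtype.ext (pow_add f i k)

variable {Z : Scheme.{u}} (i : Z ⟶ Proj 𝒜)

/-- The fraction `a / f ^ n` as a function on the trace of `D₊(f)` on `Z`. -/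
noncomputable def chartHom (f : A) : Away 𝒜 f →+* Γ(Z, i ⁻¹ᵁ Proj.basicOpen 𝒜 f) :=
  (Proj.awayToSection 𝒜 f ≫ i.app (Proj.basicOpen 𝒜 f)).hom

/-- A homogeneous element of degree `n` vanishes on `Z`. -/
def Vanishes (s : Set A) (n : ℕ) (a : A) : Prop :=
  ∀ (f : A) (_ : f ∈ s) (hf : f ∈ 𝒜 1) (ha : a ∈ 𝒜 n), chartHom i f (fr hf n a ha) = 0

/-- The homogeneous ideal of the homogeneous elements vanishing on `Z`. -/
def idealOf (s : Set A) : Ideal A :=
  Ideal.span {a | ∃ n, a ∈ 𝒜 n ∧ Vanishes i s n a}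

theorem isHomogeneous_idealOf (s : Set A) : (idealOf i s).IsHomogeneous 𝒜 :=
  Ideal.homogeneous_span 𝒜 _ fun _ ⟨n, hn, _⟩ ↦ ⟨n, hn⟩

theorem vanishes_zero (s : Set A) (n : ℕ) : Vanishes i s n 0 := fun f _ hf _ ↦ by
  rw [fr_zero, map_zero]

theorem vanishes_of_mem (s : Set A) {x : A} (hx : x ∈ idealOf i s) {m : ℕ} (hxm : x ∈ 𝒜 m) :
    Vanishes i s m x := by
  classical
  have key : ∀ c, ∀ m, Vanishes i s m (DirectSum.decompose 𝒜 (c * x) m : A) := by
    clear hxm
    induction hx using Submodule.span_induction with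
    | mem t ht =>
      obtain ⟨k, htk, htv⟩ := ht
      intro c m f hfs hf ha
      rcases le_or_gt k m with hkm | hkm
      · have h := DirectSum.coe_decompose_mul_of_right_mem_of_le 𝒜 (a := c) htk hkm
        have hmem : (DirectSum.decompose 𝒜 c (m - k) : A) * t ∈ 𝒜 m := h ▸ ha
        have h2 : fr hf m _ ha = fr hf m _ hmem := by simp only [h]
        rw [h2, fr_mul hf (m - k) k _ _ (SetLike.coe_mem _) htk m (Nat.sub_add_cancel hkm) hmem,
          map_mul, htv f hfs hf htk, mul_zero]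
      · have h := DirectSum.coe_decompose_mul_of_right_mem_of_not_le 𝒜 (a := c) htk (by omega : ¬ k ≤ m)
        have h2 : fr hf m _ ha = fr hf m 0 (zero_mem _) := by simp only [h]
        rw [h2, fr_zero, map_zero]
    | zero =>
      intro c m
      simp only [mul_zero, DirectSum.decompose_zero]
      exact vanishes_zero i s m
    | add a b _ _ hA hB =>
      intro c m f hfs hf ha
      have h : (DirectSum.decompose 𝒜 (c * (a + b)) m : A) =
          (DirectSum.decompose 𝒜 (c * a) m : A) + (DirectSum.decompose 𝒜 (c * b) m : A) := by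
        simp [mul_add]
      have h2 : fr hf m _ ha = fr hf m _ (add_mem (DirectSum.decompose 𝒜 (c * a) m).2
          (DirectSum.decompose 𝒜 (c * b) m).2) := by simp only [h]
      rw [h2, fr_add hf m _ _ (SetLike.coe_mem _) (SetLike.coe_mem _), map_add,
        hA c m f hfs hf (SetLike.coe_mem _), hB c m f hfs hf (SetLike.coe_mem _), add_zero]
    | smul d a _ hA =>
      intro c m
      rw [smul_eq_mul, ← mul_assoc]
      exact hA (c * d) m
  have h := key 1 m
  rwa [one_mul, DirectSum.decompose_of_mem_same 𝒜 hxm] at h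

/-- The basic open of the function `h / g` on `D₊(g)`. -/
theorem basicOpen_fr {g h : A} (hg : g ∈ 𝒜 1) (hh : h ∈ 𝒜 1) :
    (Proj 𝒜).basicOpen (Proj.awayToSection 𝒜 g (fr hg 1 h hh)) =
      Proj.basicOpen 𝒜 (g * h) := by
  apply TopologicalSpace.Opens.ext
  ext x
  constructor
  · intro hx
    have hxg : x ∈ Proj.basicOpen 𝒜 g := (Proj 𝒜).basicOpen_le _ hx
    have hu := ((Proj 𝒜).mem_basicOpen _ _ hxg).1 hx
    have h1 := ConcreteCategory.congr_hom
      (AlgebraicGeometry.ProjectiveSpectrum.Proj.awayToSection_germ (𝒜 := 𝒜) g x hxg) (fr hg 1 h hh)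
    replace hu : IsUnit ((AlgebraicGeometry.Proj.stalkIso' 𝒜 x).toCommRingCatIso.inv
        (HomogeneousLocalization.mapId 𝒜 (Submonoid.powers_le.mpr hxg) (fr hg 1 h hh))) := h1 ▸ hu
    replace hu := (MulEquiv.isUnit_map (f := (AlgebraicGeometry.Proj.stalkIso' 𝒜 x).symm)).1 hu
    rw [← HomogeneousLocalization.isUnit_iff_isUnit_val] at hu
    have hv : (HomogeneousLocalization.mapId 𝒜 (Submonoid.powers_le.mpr hxg) (fr hg 1 h hh)).val =
        IsLocalization.mk' (Localization.AtPrime x.asHomogeneousIdeal.toIdeal) h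
          (⟨g ^ 1, by simpa using hxg⟩ : x.asHomogeneousIdeal.toIdeal.primeCompl) := by
      rw [fr, Away.mk, HomogeneousLocalization.map_mk, HomogeneousLocalization.val_mk,
        Localization.mk_eq_mk']
      rfl
    rw [hv, IsLocalization.AtPrime.isUnit_mk'_iff] at hu
    rw [Proj.basicOpen_mul]
    exact ⟨hxg, hu⟩
  · intro hx
    rw [Proj.basicOpen_mul] at hx
    obtain ⟨hxg, hxh⟩ := hx
    refine ((Proj 𝒜).mem_basicOpen _ _ hxg).2 ?_
    have h1 := ConcreteCategory.congr_hom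
      (AlgebraicGeometry.ProjectiveSpectrum.Proj.awayToSection_germ (𝒜 := 𝒜) g x hxg) (fr hg 1 h hh)
    refine h1.symm ▸ ?_
    change IsUnit ((AlgebraicGeometry.Proj.stalkIso' 𝒜 x).symm
      (HomogeneousLocalization.mapId 𝒜 (Submonoid.powers_le.mpr hxg) (fr hg 1 h hh)))
    refine IsUnit.map (AlgebraicGeometry.Proj.stalkIso' 𝒜 x).symm ?_
    rw [← HomogeneousLocalization.isUnit_iff_isUnit_val]
    have hv : (HomogeneousLocalization.mapId 𝒜 (Submonoid.powers_le.mpr hxg) (fr hg 1 h hh)).val =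
        IsLocalization.mk' (Localization.AtPrime x.asHomogeneousIdeal.toIdeal) h
          (⟨g ^ 1, by simpa using hxg⟩ : x.asHomogeneousIdeal.toIdeal.primeCompl) := by
      rw [fr, Away.mk, HomogeneousLocalization.map_mk, HomogeneousLocalization.val_mk,
        Localization.mk_eq_mk']
      rfl
    rw [hv, IsLocalization.AtPrime.isUnit_mk'_iff]
    exact hxh

/-- A fraction vanishing on `Z ∩ D₊(f)` becomes a vanishing element after multiplication by a
power of `f`. -/
theorem exists_pow_mul_mem_idealOf [IsAffineHom i] (s : Finset A) (hs1 : ∀ f ∈ s, f ∈ 𝒜 1)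
    {f : A} (hf : f ∈ s) {n : ℕ} {a : A} (ha : a ∈ 𝒜 n)
    (h0 : chartHom i f (fr (hs1 f hf) n a ha) = 0) : ∃ k, f ^ k * a ∈ idealOf i (s : Set A) := by
  classical
  have hf1 := hs1 f hf
  have key : ∀ g ∈ s, ∃ k : ℕ, ∀ hg : g ∈ 𝒜 1,
      chartHom i g (fr hg 1 f hf1) ^ k * chartHom i g (fr hg n a ha) = 0 := by
    intro g hgs
    have hg := hs1 g hgs
    let V := i ⁻¹ᵁ Proj.basicOpen 𝒜 g
    have hV : IsAffineOpen V :=
      (Proj.isAffineOpen_basicOpen 𝒜 g hg Nat.one_pos).preimage i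
    let w := chartHom i g (fr hg 1 f hf1)
    have hbo : Z.basicOpen w = i ⁻¹ᵁ Proj.basicOpen 𝒜 (g * f) := by
      rw [← basicOpen_fr hg hf1, Scheme.preimage_basicOpen]
      rfl
    have hle₁ : Proj.basicOpen 𝒜 (g * f) ≤ Proj.basicOpen 𝒜 g :=
      Proj.basicOpen_mono _ _ _ (dvd_mul_right g f)
    have hle₂ : Proj.basicOpen 𝒜 (g * f) ≤ Proj.basicOpen 𝒜 f :=
      Proj.basicOpen_mono _ _ _ (dvd_mul_left f g)
    have hres₁ : ∀ z, (Z.presheaf.map (homOfLE (i.preimage_mono hle₁)).op).hom (chartHom i g z) =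
        chartHom i (g * f) (awayMap 𝒜 hf1 rfl z) := by
      intro z
      have e1 := ConcreteCategory.congr_hom
        (Proj.awayMap_awayToSection (𝒜 := 𝒜) (f := g) hf1 rfl) z
      have e2 := ConcreteCategory.congr_hom (i.naturality (homOfLE hle₁).op) (Proj.awayToSection 𝒜 g z)
      change _ = i.app _ (Proj.awayToSection 𝒜 (g * f) (awayMap 𝒜 hf1 rfl z))
      exact e2.symm.trans (congrArg (i.app _).hom e1.symm)
    have hres₂ : ∀ z, (Z.presheaf.map (homOfLE (i.preimage_mono hle₂)).op).hom (chartHom i f z) =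
        chartHom i (g * f) (awayMap 𝒜 hg (mul_comm g f) z) := by
      intro z
      have e1 := ConcreteCategory.congr_hom
        (Proj.awayMap_awayToSection (𝒜 := 𝒜) (f := f) hg (mul_comm g f)) z
      have e2 := ConcreteCategory.congr_hom (i.naturality (homOfLE hle₂).op) (Proj.awayToSection 𝒜 f z)
      change _ = i.app _ (Proj.awayToSection 𝒜 (g * f) (awayMap 𝒜 hg (mul_comm g f) z))
      exact e2.symm.trans (congrArg (i.app _).hom e1.symm)
    have hzero : (Z.presheaf.map (homOfLE (i.preimage_mono hle₁)).op).hom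
        (chartHom i g (fr hg n a ha)) = 0 := by
      have hfn : f ^ n ∈ 𝒜 n := by simpa using SetLike.pow_mem_graded n hf1
      have e : awayMap 𝒜 hf1 rfl (fr hg n a ha) =
          awayMap 𝒜 hg (mul_comm g f) (fr hf1 n a ha) * awayMap 𝒜 hf1 rfl (fr hg n (f ^ n) hfn) := by
        simp only [fr, awayMap_mk]
        apply HomogeneousLocalization.val_injective
        simp only [HomogeneousLocalization.val_mul, Away.val_mk, Localization.mk_mul,
          Localization.mk_eq_mk_iff, Localization.r_iff_exists]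
        exact ⟨1, by simp only [OneMemClass.coe_one, one_mul, Submonoid.coe_mul]; ring⟩
      rw [hres₁, e, map_mul, ← hres₂, h0, map_zero, zero_mul]
    have := hV.isLocalization_basicOpen w
    have hzero' : algebraMap Γ(Z, V) Γ(Z, Z.basicOpen w) (chartHom i g (fr hg n a ha)) = 0 := by
      have hh := congrArg (Z.presheaf.map (homOfLE hbo.le).op).hom hzero
      rw [map_zero] at hh
      rw [← hh]
      change _ = (Z.presheaf.map _ ≫ Z.presheaf.map _) _
      rw [← Functor.map_comp]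
      rfl
    obtain ⟨⟨_, k, rfl⟩, hk⟩ := (IsLocalization.map_eq_zero_iff (Submonoid.powers w)
      Γ(Z, Z.basicOpen w) _).1 hzero'
    exact ⟨k, fun _ ↦ hk⟩
  choose! k hk using key
  refine ⟨∑ g ∈ s, k g, Ideal.subset_span ⟨(∑ g ∈ s, k g) + n, ?_, ?_⟩⟩
  · exact SetLike.mul_mem_graded (by simpa using SetLike.pow_mem_graded (∑ g ∈ s, k g) hf1) ha
  intro g hgs hg hmem
  have hkle : k g ≤ ∑ g ∈ s, k g := Finset.single_le_sum (fun _ _ ↦ Nat.zero_le _) hgs
  have hpow : ∀ (m : ℕ) (hm : f ^ m ∈ 𝒜 m), fr hg m (f ^ m) hm = fr hg 1 f hf1 ^ m := by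
    intro m hm
    apply HomogeneousLocalization.val_injective
    simp only [HomogeneousLocalization.val_pow, val_fr, Localization.mk_pow]
    congr 1
    exact Subtype.ext (by simp)
  have hm' : f ^ (∑ g ∈ s, k g) ∈ 𝒜 (∑ g ∈ s, k g) := by
    simpa using SetLike.pow_mem_graded (∑ g ∈ s, k g) hf1
  rw [fr_mul hg _ n _ _ hm' ha _ rfl hmem, map_mul, hpow, map_pow,
    ← Nat.sub_add_cancel hkle, pow_add, mul_assoc, hk g hgs hg, mul_zero]

end Groth.ProjClosed
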