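import Mathlib.RingTheory.GradedAlgebra.Homogeneous.Ideal
import Mathlib.RingTheory.Ideal.Quotient.Operations

/-!
# The grading of a quotient by a homogeneous ideal
-/

universe u

open DirectSum

namespace Groth.ProjClosed

variable {R A : Type u} [CommRing R] [CommRing A] [Algebra R A] (𝒜 : ℕ → Submodule R A)
  [GradedAlgebra 𝒜] (I : Ideal A)

/-- The pieces of the quotient grading. -/
def quotGrading (n : ℕ) : Submodule R (A ⧸ I) :=
  (𝒜 n).map (Ideal.Quotient.mkₐ R I).toLinearMap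

omit [GradedAlgebra 𝒜] in
theorem mk_mem_quotGrading {n : ℕ} {a : A} (ha : a ∈ 𝒜 n) :
    Ideal.Quotient.mk I a ∈ quotGrading 𝒜 I n := ⟨a, ha, rfl⟩

instance : SetLike.GradedMonoid (quotGrading 𝒜 I) where
  one_mem := ⟨1, SetLike.one_mem_graded 𝒜, map_one (Ideal.Quotient.mkₐ R I)⟩
  mul_mem := by
    rintro i j _ _ ⟨a, ha, rfl⟩ ⟨b, hb, rfl⟩
    exact ⟨a * b, SetLike.mul_mem_graded ha hb, map_mul (Ideal.Quotient.mkₐ R I) a b⟩

/-- The map of the associated direct sums. -/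
noncomputable def dirMap : (⨁ i, 𝒜 i) →ₐ[R] ⨁ i, quotGrading 𝒜 I i :=
  DirectSum.toAlgebra R _
    (fun i ↦ (DirectSum.lof R ℕ (fun i ↦ quotGrading 𝒜 I i) i).comp
      (((Ideal.Quotient.mkₐ R I).toLinearMap).restrict fun _ ha ↦ mk_mem_quotGrading 𝒜 I ha))
    rfl
    (fun {i j} ai aj ↦ by
      simp only [LinearMap.comp_apply, DirectSum.lof_eq_of, DirectSum.of_mul_of]
      congr 1)

theorem dirMap_of (i : ℕ) (a : 𝒜 i) :
    dirMap 𝒜 I (DirectSum.of _ i a) =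
      DirectSum.of _ i ⟨Ideal.Quotient.mk I a, mk_mem_quotGrading 𝒜 I a.2⟩ :=
  by
    simp only [dirMap, DirectSum.toAlgebra_apply, DirectSum.toSemiring_of]
    rfl

theorem dirMap_decompose_eq_zero (hI : I.IsHomogeneous 𝒜) {a : A} (ha : a ∈ I) :
    dirMap 𝒜 I (DirectSum.decomposeAlgEquiv 𝒜 a) = 0 := by
  classical
  rw [show DirectSum.decomposeAlgEquiv 𝒜 a = DirectSum.decompose 𝒜 a from rfl,
    ← DirectSum.sum_support_of (DirectSum.decompose 𝒜 a), map_sum]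
  refine Finset.sum_eq_zero fun i _ ↦ ?_
  rw [dirMap_of]
  have h0 : Ideal.Quotient.mk I (DirectSum.decompose 𝒜 a i : A) = 0 :=
    Ideal.Quotient.eq_zero_iff_mem.2 (hI i ha)
  simp only [h0]
  exact map_zero (DirectSum.of (fun i ↦ ↥(quotGrading 𝒜 I i)) i)

/-- The decomposition of the quotient. -/
noncomputable def quotDecompose (hI : I.IsHomogeneous 𝒜) :
    (A ⧸ I) →ₐ[R] ⨁ i, quotGrading 𝒜 I i :=
  Ideal.Quotient.liftₐ I ((dirMap 𝒜 I).comp (DirectSum.decomposeAlgEquiv 𝒜).toAlgHom)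
    fun _ ha ↦ dirMap_decompose_eq_zero 𝒜 I hI ha

theorem quotDecompose_mk (hI : I.IsHomogeneous 𝒜) {i : ℕ} {a : A} (ha : a ∈ 𝒜 i) :
    quotDecompose 𝒜 I hI (Ideal.Quotient.mk I a) =
      DirectSum.of _ i ⟨Ideal.Quotient.mk I a, mk_mem_quotGrading 𝒜 I ha⟩ := by
  have h : DirectSum.decomposeAlgEquiv 𝒜 a = DirectSum.of (fun i ↦ 𝒜 i) i ⟨a, ha⟩ :=
    DirectSum.decompose_of_mem 𝒜 ha
  change dirMap 𝒜 I (DirectSum.decomposeAlgEquiv 𝒜 a) = _
  rw [h, dirMap_of]

/-- The quotient by a homogeneous ideal is a graded algebra. -/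
@[implicit_reducible]
noncomputable def quotGradedAlgebra (hI : I.IsHomogeneous 𝒜) :
    GradedAlgebra (quotGrading 𝒜 I) :=
  GradedAlgebra.ofAlgHom _ (quotDecompose 𝒜 I hI)
    (by
      refine Ideal.Quotient.algHom_ext R (AlgHom.ext fun a ↦ ?_)
      induction a using DirectSum.Decomposition.inductionOn 𝒜 with
      | zero => simp
      | @homogeneous i a =>
        simp only [AlgHom.comp_apply, Ideal.Quotient.mkₐ_eq_mk, AlgHom.id_apply]
        rw [quotDecompose_mk 𝒜 I hI a.2, DirectSum.coeAlgHom_of]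
      | add x y hx hy => simp only [map_add, hx, hy])
    (by
      rintro i ⟨_, a, ha, rfl⟩
      exact quotDecompose_mk 𝒜 I hI ha)

end Groth.ProjClosed
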